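import Cfsg.Agent.PMinOff.Spread
import Cfsg.Agent.TimmesfeldTI.Spread
import Cfsg.Agent.Classical.LinearBasic

/-!
# Two regular transvection groups generate `SL₂(q)`
-/

set_option autoImplicit false
set_option linter.style.haveILetI false
set_option linter.unusedSectionVars false

namespace Cfsg.Agent.PMinOff

open Module
open scoped MatrixGroups

/-- An additive action, read as a linear one. -/
def linearAct (p : ℕ) {Q : Type*} [AddCommGroup Q] [Module (ZMod p) Q] {P : Type*} [Group P]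
    (f : P → Q →+ Q) (h1 : ∀ q, f 1 q = q) (hm : ∀ y z q, f (y * z) q = f y (f z q)) :
    P →* (Q ≃ₗ[ZMod p] Q) where
  toFun y :=
    { (f y).toZModLinearMap p with
      invFun := f y⁻¹
      left_inv := fun q => by
        show f y⁻¹ (f y q) = q
        rw [← hm, inv_mul_cancel, h1]
      right_inv := fun q => by
        show f y (f y⁻¹ q) = q
        rw [← hm, mul_inv_cancel, h1] }
  map_one' := LinearEquiv.ext fun q => h1 q
  map_mul' y z := LinearEquiv.ext fun q => hm y z q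

@[simp] theorem linearAct_apply (p : ℕ) {Q : Type*} [AddCommGroup Q] [Module (ZMod p) Q] {P : Type*}
    [Group P] (f : P → Q →+ Q) (h1 : ∀ q, f 1 q = q)
    (hm : ∀ y z q, f (y * z) q = f y (f z q)) (y : P) (q : Q) : linearAct p f h1 hm y q = f y q :=
  rfl

theorem recognise_linear {p : ℕ} [Fact p.Prime] {Q : Type*} [AddCommGroup Q] [Module (ZMod p) Q]
    [Finite Q] {P : Type*} [Group P] [Finite P] (π : P →* (Q ≃ₗ[ZMod p] Q))
    (hπ : Function.Injective π) (A N : Subgroup P) (x : P) (W : Submodule (ZMod p) Q)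
    (hgen : A ⊔ A.map (MulAut.conj x).toMonoidHom = ⊤) (hAN : A ≤ N) (hxN : x ∉ N) (hA1 : A ≠ ⊥)
    (hfix : ∀ a ∈ A, ∀ w ∈ W, π a w = w) (hquad : ∀ a ∈ A, ∀ v, π a v - v ∈ W)
    (hreg : ∀ a ∈ A, a ≠ 1 → ∀ v, π a v = v → v ∈ W) (hcard : Nat.card W = Nat.card A)
    (hcompl : IsCompl W (W.map (π x).toLinearMap))
    (hmeet : ∀ y : P, y ∉ N → W ⊓ W.map (π y).toLinearMap = ⊥) :
    ∃ (K : Type) (_ : Field K) (_ : Fintype K), Fintype.card K = Nat.card A ∧
      ∃ (ρ : P ≃* SL(2, K)) (μ : (Fin 2 → K) ≃+ Q), ∀ (e : P) (v : Fin 2 → K),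
        π e (μ v) = μ ((ρ e : Matrix (Fin 2) (Fin 2) K).mulVec v) := by
  classical
  have hmul : ∀ (y z : P) (v : Q), π (y * z) v = π y (π z v) := fun y z v => by
    rw [map_mul]; rfl
  have hinv : ∀ (y : P) (v : Q), π y⁻¹ (π y v) = v := fun y v => by
    rw [← hmul, inv_mul_cancel, map_one]; rfl
  have hmem : ∀ (y : P) (v : Q), v ∈ W.map (π y).toLinearMap ↔ π y⁻¹ v ∈ W := by
    intro y v
    constructor
    · rintro ⟨w, hw, rfl⟩
      show π y⁻¹ (π y w) ∈ W
      rwa [hinv]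
    · intro h
      exact ⟨_, h, show π y (π y⁻¹ v) = v by rw [← hmul, mul_inv_cancel, map_one]; rfl⟩
  set W₂ := W.map (π x).toLinearMap with hW₂
  have hdisj : ∀ v ∈ W, v ∈ W₂ → v = 0 := fun v h1 h2 =>
    (Submodule.mem_bot _).mp (hcompl.inf_eq_bot.le (Submodule.mem_inf.mpr ⟨h1, h2⟩))
  have hcard₂ : Nat.card W₂ = Nat.card W :=
    (Nat.card_congr ((π x).submoduleMap W).toEquiv).symm
  let dd : A → (W₂ →ₗ[ZMod p] W) := fun a =>
    LinearMap.codRestrict W (((π (a : P)).toLinearMap - LinearMap.id).domRestrict W₂)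
      fun v => hquad a a.2 (v : Q)
  have hdd : ∀ (a : A) (v : W₂), ((dd a v : W) : Q) = π (a : P) (v : Q) - v := fun _ _ => rfl
  have hddinj : ∀ a : A, a ≠ 1 → Function.Injective (dd a) := by
    intro a ha
    rw [← LinearMap.ker_eq_bot, LinearMap.ker_eq_bot']
    intro v hv
    have h0 : π (a : P) (v : Q) = v := sub_eq_zero.mp (by rw [← hdd, hv]; rfl)
    exact Subtype.ext (hdisj _ (hreg a a.2 (fun e => ha (Subtype.ext e)) _ h0) v.2)
  obtain ⟨a₁, ha₁⟩ : ∃ a : A, a ≠ 1 := by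
    obtain ⟨a, ha⟩ := Subgroup.ne_bot_iff_exists_ne_one.mp hA1
    exact ⟨a, ha⟩
  let η : W ≃ₗ[ZMod p] W₂ := (LinearEquiv.ofBijective (dd a₁)
    ((Nat.bijective_iff_injective_and_card _).mpr ⟨hddinj a₁ ha₁, hcard₂⟩)).symm
  have hη : ∀ w : W, π (a₁ : P) (η w : Q) - (η w : Q) = w := fun w => by
    rw [← hdd]
    exact congrArg Subtype.val ((LinearEquiv.ofBijective (dd a₁)
      ((Nat.bijective_iff_injective_and_card _).mpr ⟨hddinj a₁ ha₁, hcard₂⟩)).apply_symm_apply w)
  let T : A → Module.End (ZMod p) W := fun a => (dd a).comp η.toLinearMap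
  have hT : ∀ (a : A) (y : W), π (a : P) (η y : Q) = (T a y : Q) + η y := fun a y =>
    (sub_add_cancel _ _).symm
  have hT1 : T a₁ = 1 := LinearMap.ext fun w => Subtype.ext (by
    show π (a₁ : P) (η w : Q) - (η w : Q) = w
    exact hη w)
  have hTmul : ∀ a b : A, T (a * b) = T a + T b := fun a b => LinearMap.ext fun y => Subtype.ext (by
    show π ((a : P) * (b : P)) (η y : Q) - (η y : Q) = (T a y : Q) + (T b y : Q)
    rw [hmul, hT b, map_add, hfix a a.2 _ (T b y).2, hT a]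
    abel)
  -- the conjugate transvection group
  have hfix₂ : ∀ a ∈ A, ∀ v ∈ W₂, π (x * a * x⁻¹) v = v := by
    rintro a ha _ ⟨w, hw, rfl⟩
    show π (x * a * x⁻¹) (π x w) = π x w
    rw [hmul, hmul, hinv, hfix a ha w hw]
  have hquad₂ : ∀ a ∈ A, ∀ v, π (x * a * x⁻¹) v - v ∈ W₂ := by
    intro a ha v
    refine ⟨_, hquad a ha (π x⁻¹ v), ?_⟩
    show π x (π a (π x⁻¹ v) - π x⁻¹ v) = _
    rw [map_sub, ← hmul, ← hmul, ← hmul, mul_inv_cancel, map_one]
    congr 1
  let cc : A → (W →ₗ[ZMod p] W₂) := fun a =>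
    LinearMap.codRestrict W₂ (((π (x * (a : P) * x⁻¹)).toLinearMap - LinearMap.id).domRestrict W)
      fun v => hquad₂ a a.2 (v : Q)
  let S : A → Module.End (ZMod p) W := fun a => η.symm.toLinearMap.comp (cc a)
  have hS : ∀ (a : A) (w : W), π (x * (a : P) * x⁻¹) (w : Q) = (w : Q) + (η (S a w) : Q) := fun a w => by
    show _ = (w : Q) + (η (η.symm (cc a w)) : Q)
    rw [LinearEquiv.apply_symm_apply]
    exact (add_sub_cancel _ _).symm
  have hSmul : ∀ a b : A, S (a * b) = S a + S b := fun a b => LinearMap.ext fun w => by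
    apply η.injective
    apply Subtype.ext
    have h1 := hS (a * b) w
    rw [show x * ((a * b : A) : P) * x⁻¹ = (x * (a : P) * x⁻¹) * (x * (b : P) * x⁻¹) by
      rw [Subgroup.coe_mul]; group, hmul, hS b, map_add, hS a, hfix₂ a a.2 _ (η (S b w)).2,
      add_assoc] at h1
    rw [LinearMap.add_apply, map_add]
    exact (add_left_cancel h1).symm
  haveI hWnt : Nontrivial W := by
    rw [← Finite.one_lt_card_iff_nontrivial, hcard]
    exact (Subgroup.one_lt_card_iff_ne_bot A).mpr hA1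
  have hTzero : ∀ a : A, T a = 0 → a = 1 := by
    intro a h
    by_contra ha
    obtain ⟨w, hw⟩ := exists_ne (0 : W)
    refine hw (η.injective (hddinj a ha ?_))
    rw [map_zero, map_zero]
    exact LinearMap.congr_fun h w
  have hTone : T 1 = 0 := by
    have h := hTmul 1 1
    rw [mul_one] at h
    exact left_eq_add.mp h
  have hSone : S 1 = 0 := by
    have h := hSmul 1 1
    rw [mul_one] at h
    exact left_eq_add.mp h
  have hSzero : ∀ a : A, S a = 0 → a = 1 := by
    intro a h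
    have h1 : ∀ w ∈ W, π (x * (a : P) * x⁻¹) w = w := fun w hw => by
      rw [hS a ⟨w, hw⟩, h, LinearMap.zero_apply, map_zero]
      exact add_zero _
    have h2 : x * (a : P) * x⁻¹ = 1 := hπ (by
      rw [map_one]
      refine LinearEquiv.ext fun v => ?_
      obtain ⟨w, hw, t, ht, rfl⟩ : ∃ w ∈ W, ∃ t ∈ W₂, w + t = v :=
        Submodule.mem_sup.mp (hcompl.sup_eq_top ▸ Submodule.mem_top)
      rw [map_add, h1 w hw, hfix₂ a a.2 t ht]
      rfl)
    exact Subtype.ext (conj_eq_one_iff.mp h2)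
  let eT : Additive A →+ Module.End (ZMod p) W :=
    { toFun := fun a => T (Additive.toMul a), map_zero' := hTone,
      map_add' := fun a b => hTmul (Additive.toMul a) (Additive.toMul b) }
  let eS : Additive A →+ Module.End (ZMod p) W :=
    { toFun := fun a => S (Additive.toMul a), map_zero' := hSone,
      map_add' := fun a b => hSmul (Additive.toMul a) (Additive.toMul b) }
  have hTinj : Function.Injective eT := (injective_iff_map_eq_zero _).mpr fun a h =>
    congrArg Additive.ofMul (hTzero (Additive.toMul a) h)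
  have hSinj : Function.Injective eS := (injective_iff_map_eq_zero _).mpr fun a h =>
    congrArg Additive.ofMul (hSzero (Additive.toMul a) h)
  -- coordinates
  let μ₀ : (W × W) ≃ₗ[ZMod p] Q :=
    ((LinearEquiv.refl (ZMod p) W).prodCongr η).trans (Submodule.prodEquivOfIsCompl W W₂ hcompl)
  have hμ₀ : ∀ w y : W, μ₀ (w, y) = (w : Q) + η y := fun _ _ => rfl
  have hπT : ∀ (a : A) (w y : W), π (a : P) (μ₀ (w, y)) = μ₀ (w + T a y, y) := fun a w y => by
    rw [hμ₀, hμ₀, map_add, hfix a a.2 _ w.2, hT, Submodule.coe_add, ← add_assoc]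
  have hπS : ∀ (a : A) (w y : W), π (x * (a : P) * x⁻¹) (μ₀ (w, y)) = μ₀ (w, y + S a w) :=
    fun a w y => by
    rw [hμ₀, hμ₀, map_add, hfix₂ a a.2 _ (η y).2, hS, map_add, Submodule.coe_add]
    abel
  -- every conjugate of `W` is `W` or a line of the spread
  have hmeet' : ∀ y z : P, y⁻¹ * z ∉ N → ∀ v ∈ W.map (π y).toLinearMap,
      v ∈ W.map (π z).toLinearMap → v = 0 := by
    intro y z hyz v hy hz
    rw [hmem] at hy hz
    have h1 : π y⁻¹ v ∈ W ⊓ W.map (π (y⁻¹ * z)).toLinearMap := by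
      refine ⟨hy, (hmem _ _).mpr ?_⟩
      rw [mul_inv_rev, inv_inv, hmul, ← hmul y y⁻¹, mul_inv_cancel, map_one]
      exact hz
    rw [hmeet _ hyz, Submodule.mem_bot] at h1
    exact (π y⁻¹).map_eq_zero_iff.mp h1
  have hline : ∀ (a : A) (y : W), μ₀ (T a y, y) ∈ W.map (π ((a : P) * x)).toLinearMap := by
    intro a y
    obtain ⟨w, hw, he⟩ := (η y).2
    refine ⟨w, hw, ?_⟩
    show π ((a : P) * x) w = _
    rw [hmul, show π x w = (η y : Q) from he, hT, hμ₀]
  have hline' : ∀ (a : A) (v : Q), v ∈ W.map (π ((a : P) * x)).toLinearMap →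
      ∃ y : W, v = μ₀ (T a y, y) := by
    rintro a _ ⟨w, hw, rfl⟩
    refine ⟨η.symm ⟨π x w, Submodule.mem_map_of_mem hw⟩, ?_⟩
    show π ((a : P) * x) w = _
    rw [hmul, hμ₀, ← hT, LinearEquiv.apply_symm_apply]
  have hcov : ∀ w y : W, y ≠ 0 → ∃ a : A, T a y = w := by
    intro w y hy
    have hinj : Function.Injective fun a : A => T a y := by
      intro a b hab
      have hab' : T a y = T b y := hab
      have h0 : T (a * b⁻¹) y = 0 := by
        have := hTmul (a * b⁻¹) b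
        rw [inv_mul_cancel_right] at this
        rw [this, LinearMap.add_apply] at hab'
        exact add_eq_right.mp hab'
      by_contra hne
      have h1 : (a * b⁻¹ : A) ≠ 1 := fun e => hne (mul_inv_eq_one.mp e)
      refine hy (η.injective ?_)
      rw [map_zero]
      exact hddinj _ h1 (h0.trans (map_zero _).symm)
    exact ((Nat.bijective_iff_injective_and_card _).mpr ⟨hinj, hcard.symm⟩).2 w
  have hax : ∀ a : A, (a : P) * x ∉ N := fun a h => hxN ((N.mul_mem_cancel_left (hAN a.2)).mp h)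
  have hcardmap : ∀ y : P, Nat.card (W.map (π y).toLinearMap) = Nat.card W := fun y =>
    (Nat.card_congr ((π y).submoduleMap W).toEquiv).symm
  have hN : ∀ y : P, y ∈ N → W.map (π y).toLinearMap = W := by
    intro y hy
    have hle : W.map (π y).toLinearMap ≤ W := by
      intro v hv
      obtain ⟨⟨w, t⟩, rfl⟩ := μ₀.surjective v
      by_cases ht : t = 0
      · rw [hμ₀, ht, map_zero]
        exact (add_zero (w : Q)).symm ▸ w.2
      obtain ⟨a, rfl⟩ := hcov w t ht
      have := hmeet' y ((a : P) * x) (fun h => hax a (by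
        simpa [mul_assoc] using N.mul_mem hy h)) _ hv (hline a t)
      rw [this]
      exact W.zero_mem
    exact SetLike.coe_injective (Set.eq_of_subset_of_ncard_le hle
      (by rw [← Nat.card_coe_set_eq, ← Nat.card_coe_set_eq]; exact (hcardmap y).ge) (Set.toFinite _))
  have hclass : ∀ y : P, W.map (π y).toLinearMap = W ∨
      ∃ a : A, W.map (π y).toLinearMap = W.map (π ((a : P) * x)).toLinearMap := by
    intro y
    by_cases hy : y ∈ N
    · exact Or.inl (hN y hy)
    obtain ⟨w₀, hw₀⟩ := exists_ne (0 : W)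
    obtain ⟨⟨w, t⟩, hwt⟩ := μ₀.surjective (π y (w₀ : Q))
    have hv : μ₀ (w, t) ∈ W.map (π y).toLinearMap := hwt ▸ Submodule.mem_map_of_mem w₀.2
    have hv0 : μ₀ (w, t) ≠ 0 := by
      rw [hwt]
      exact fun e => hw₀ (Subtype.ext ((π y).map_eq_zero_iff.mp e))
    have ht : t ≠ 0 := by
      intro ht
      refine hv0 ((Submodule.mem_bot _).mp ((hmeet y hy).le ⟨?_, hv⟩))
      rw [hμ₀, ht, map_zero]
      exact (add_zero (w : Q)).symm ▸ w.2
    obtain ⟨a, rfl⟩ := hcov w t ht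
    refine Or.inr ⟨a, ?_⟩
    have hn : y⁻¹ * ((a : P) * x) ∈ N := by
      by_contra h
      exact hv0 (hmeet' _ _ h _ hv (hline a t))
    ext v
    rw [hmem, hmem]
    conv_lhs => rw [← hN _ hn]
    rw [hmem, ← hmul, mul_inv_rev, inv_inv,
      mul_assoc ((a : P) * x)⁻¹ y y⁻¹, mul_inv_cancel, mul_one]
  -- inverses
  have hSinv : ∀ b : A, S b ≠ 0 → ∃ a : A, S b * T a = 1 ∧ T a * S b = 1 := by
    intro b hb
    have hM : ∀ w : W, μ₀ (w, S b w) ∈ W.map (π (x * (b : P) * x⁻¹)).toLinearMap := fun w => by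
      refine ⟨w, w.2, ?_⟩
      show π (x * (b : P) * x⁻¹) (w : Q) = _
      rw [hS, hμ₀]
    rcases hclass (x * (b : P) * x⁻¹) with h | ⟨a, ha⟩
    · exfalso
      refine hb (LinearMap.ext fun w => η.injective (Subtype.ext ?_))
      have h1 := hM w
      rw [h, hμ₀] at h1
      have h2 : (η (S b w) : Q) ∈ W := (Submodule.add_mem_iff_right W w.2).mp h1
      rw [LinearMap.zero_apply, map_zero]
      exact hdisj _ h2 (η (S b w)).2
    · refine ⟨a, LinearMap.ext fun y => ?_, LinearMap.ext fun w => ?_⟩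
      · obtain ⟨w, hw, he⟩ := ha.ge (hline a y)
        have h1 : μ₀ (⟨w, hw⟩, S b ⟨w, hw⟩) = μ₀ (T a y, y) := by
          rw [hμ₀, ← hS]; exact he
        have h2 := μ₀.injective h1
        obtain ⟨e1, e2⟩ := Prod.mk.inj h2
        rw [Module.End.mul_apply, Module.End.one_apply, ← e1]
        exact e2
      · obtain ⟨y, hy⟩ := hline' a _ (ha ▸ hM w)
        have h2 := μ₀.injective hy
        obtain ⟨e1, e2⟩ := Prod.mk.inj h2
        rw [Module.End.mul_apply, Module.End.one_apply, e2]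
        exact e1.symm
  have hcardT : Nat.card eT.range = Nat.card A :=
    (Nat.card_congr (Equiv.ofInjective eT hTinj)).symm
  have hcardS : Nat.card eS.range = Nat.card A :=
    (Nat.card_congr (Equiv.ofInjective eS hSinj)).symm
  have h' : ∀ s ∈ eS.range, s ≠ 0 → ∃ t ∈ eT.range, s * t = 1 ∧ t * s = 1 := by
    rintro _ ⟨b, rfl⟩ hb
    obtain ⟨a, e1, e2⟩ := hSinv (Additive.toMul b) hb
    exact ⟨T a, ⟨Additive.ofMul a, rfl⟩, e1, e2⟩
  have h : ∀ t ∈ eT.range, t ≠ 0 → ∃ s ∈ eS.range, t * s = 1 ∧ s * t = 1 := by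
    haveI : Finite eT.range := Nat.finite_of_card_ne_zero (hcardT ▸ Nat.card_pos.ne')
    haveI : Finite eS.range := Nat.finite_of_card_ne_zero (hcardS ▸ Nat.card_pos.ne')
    choose f hf hf1 hf2 using h'
    let F : eS.range → eT.range := fun s =>
      if hs : (s : Module.End (ZMod p) W) = 0 then ⟨0, eT.range.zero_mem⟩
      else ⟨f s s.2 hs, hf s s.2 hs⟩
    have hF : Function.Injective F := by
      intro s s' he
      by_cases hs : (s : Module.End (ZMod p) W) = 0 <;> by_cases hs' : (s' : Module.End (ZMod p) W) = 0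
      · exact Subtype.ext (hs.trans hs'.symm)
      · exfalso
        simp only [F, dif_pos hs, dif_neg hs'] at he
        have e : (0 : Module.End (ZMod p) W) = f s' s'.2 hs' := congrArg Subtype.val he
        have := hf1 s' s'.2 hs'
        rw [← e, mul_zero] at this
        exact zero_ne_one this
      · exfalso
        simp only [F, dif_neg hs, dif_pos hs'] at he
        have e : f s s.2 hs = (0 : Module.End (ZMod p) W) := congrArg Subtype.val he
        have := hf1 s s.2 hs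
        rw [e, mul_zero] at this
        exact zero_ne_one this
      · simp only [F, dif_neg hs, dif_neg hs'] at he
        have e : f s s.2 hs = f s' s'.2 hs' := congrArg Subtype.val he
        refine Subtype.ext (left_inv_eq_right_inv (hf1 s s.2 hs) ?_)
        rw [e]
        exact hf2 s' s'.2 hs'
    intro t ht ht0
    obtain ⟨s, hs⟩ := ((Nat.bijective_iff_injective_and_card F).mpr
      ⟨hF, hcardS.trans hcardT.symm⟩).2 ⟨t, ht⟩
    by_cases hs0 : (s : Module.End (ZMod p) W) = 0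
    · simp only [F, dif_pos hs0] at hs
      exact absurd (congrArg Subtype.val hs).symm ht0
    · simp only [F, dif_neg hs0] at hs
      have e : f s s.2 hs0 = t := congrArg Subtype.val hs
      exact ⟨s, s.2, e ▸ hf2 s s.2 hs0, e ▸ hf1 s s.2 hs0⟩
  have h1T : (1 : Module.End (ZMod p) W) ∈ eT.range := ⟨Additive.ofMul a₁, hT1⟩
  have h1S : (1 : Module.End (ZMod p) W) ∈ eS.range := by
    obtain ⟨s, hs, e1, -⟩ := h 1 h1T one_ne_zero
    rw [one_mul] at e1
    exact e1 ▸ hs
  obtain ⟨K, _, _, θ, hK, hEE, hθ⟩ :=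
    exists_field eT.range eS.range (hcardT.trans hcard.symm) h1T h1S h h'
  obtain ⟨w₀, hw₀⟩ := exists_ne (0 : W)
  let κ₀ : K →+ W :=
    { toFun := fun k => θ k w₀
      map_zero' := by rw [map_zero, LinearMap.zero_apply]
      map_add' := fun k l => by rw [map_add, LinearMap.add_apply] }
  have hκinj : Function.Injective κ₀ := by
    refine (injective_iff_map_eq_zero _).mpr fun k hk => ?_
    by_contra h0
    refine hw₀ ?_
    have hk' : θ k w₀ = 0 := hk
    have : θ k⁻¹ (θ k w₀) = w₀ := by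
      rw [← Module.End.mul_apply, ← map_mul, inv_mul_cancel₀ h0, map_one, Module.End.one_apply]
    rw [hk', map_zero] at this
    exact this.symm
  let κ : K ≃+ W := AddEquiv.ofBijective κ₀ ((Nat.bijective_iff_injective_and_card _).mpr
    ⟨hκinj, by rw [Nat.card_eq_fintype_card, hK]⟩)
  have hκ : ∀ k l : K, θ k (κ l) = κ (k * l) := fun k l => by
    show θ k (θ l w₀) = θ (k * l) w₀
    rw [map_mul, Module.End.mul_apply]
  let μ : (Fin 2 → K) ≃+ Q :=
    { toFun := fun v => μ₀ (κ (v 0), κ (v 1))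
      invFun := fun q => ![κ.symm (μ₀.symm q).1, κ.symm (μ₀.symm q).2]
      left_inv := fun v => by
        funext i
        fin_cases i <;> simp
      right_inv := fun q => by simp
      map_add' := fun v v' => by
        rw [← map_add μ₀, Prod.mk_add_mk, ← map_add κ, ← map_add κ]
        rfl }
  have hμ : ∀ v, μ v = μ₀ (κ (v 0), κ (v 1)) := fun _ => rfl
  obtain ⟨Ψ, hΨi, hΨ⟩ := TimmesfeldTI.exists_sl_perm μ.toEquiv
  let χ : P →* Equiv.Perm Q :=
    { toFun := fun e => (π e).toEquiv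
      map_one' := by rw [map_one]; rfl
      map_mul' := fun e e' => by rw [map_mul]; rfl }
  have hχi : Function.Injective χ := fun e e' he =>
    hπ (LinearEquiv.ext fun v => congrArg (fun g : Equiv.Perm Q => g v) he)
  have h01 : (0 : Fin 2) ≠ 1 := by decide
  have hup : ∀ (a : A) (k : K), θ k = T a →
      χ a = Ψ (Matrix.SpecialLinearGroup.transvection h01 k) := by
    intro a k hk
    refine Equiv.ext fun q => ?_
    obtain ⟨v, rfl⟩ := μ.toEquiv.surjective q
    rw [hΨ, TimmesfeldTI.transvection_mulVec_upper]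
    show π (a : P) (μ v) = μ _
    rw [hμ, hμ, hπT, ← hk, hκ, ← map_add]
    rfl
  have hlow : ∀ (a : A) (k : K), θ k = S a →
      χ (x * (a : P) * x⁻¹) = Ψ (Matrix.SpecialLinearGroup.transvection h01.symm k) := by
    intro a k hk
    refine Equiv.ext fun q => ?_
    obtain ⟨v, rfl⟩ := μ.toEquiv.surjective q
    rw [hΨ, TimmesfeldTI.transvection_mulVec_lower]
    show π (x * (a : P) * x⁻¹) (μ v) = μ _
    rw [hμ, hμ, hπS, ← hk, hκ, ← map_add, add_comm (v 1)]
    rfl
  have hrange : χ.range = Ψ.range := by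
    refine le_antisymm ?_ ?_
    · rw [MonoidHom.range_eq_map, Subgroup.map_le_iff_le_comap, ← hgen]
      refine sup_le (fun a ha => ?_) ?_
      · obtain ⟨k, hk⟩ := (hθ (T ⟨a, ha⟩)).mp ⟨Additive.ofMul ⟨a, ha⟩, rfl⟩
        exact ⟨_, (hup ⟨a, ha⟩ k hk).symm⟩
      · rintro _ ⟨a, ha, rfl⟩
        obtain ⟨k, hk⟩ := (hθ (S ⟨a, ha⟩)).mp (hEE ▸ ⟨Additive.ofMul ⟨a, ha⟩, rfl⟩)
        exact ⟨_, (hlow ⟨a, ha⟩ k hk).symm⟩
    · have htop : χ.range.comap Ψ = ⊤ := by
        refine Classical.sl_eq_top_of_transvection _ fun i j hij k => ?_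
        rw [Subgroup.mem_comap]
        by_cases hi : i = 0
        · obtain rfl := hi
          obtain rfl : j = 1 := Fin.eq_one_of_ne_zero j (Ne.symm hij)
          obtain ⟨a, ha⟩ := (hθ (θ k)).mpr ⟨k, rfl⟩
          exact ⟨_, hup (Additive.toMul a) k ha.symm⟩
        · obtain rfl : i = 1 := Fin.eq_one_of_ne_zero i hi
          obtain rfl : j = 0 := by omega
          obtain ⟨a, ha⟩ := hEE.ge ((hθ (θ k)).mpr ⟨k, rfl⟩)
          exact ⟨_, hlow (Additive.toMul a) k ha.symm⟩
      rintro _ ⟨s, rfl⟩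
      have : s ∈ χ.range.comap Ψ := htop ▸ Subgroup.mem_top s
      exact this
  let ρ : P ≃* SL(2, K) := (MonoidHom.ofInjective hχi).trans
    ((MulEquiv.subgroupCongr hrange).trans (MonoidHom.ofInjective hΨi).symm)
  refine ⟨K, inferInstance, inferInstance, by rw [hK, hcard], ρ, μ, fun e v => ?_⟩
  have h1 : Ψ (ρ e) = χ e :=
    MonoidHom.apply_ofInjective_symm hΨi ((MulEquiv.subgroupCongr hrange) ((MonoidHom.ofInjective hχi) e))
  have h2 := congrArg (fun g : Equiv.Perm Q => g (μ.toEquiv v)) h1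
  simp only [hΨ] at h2
  exact h2.symm

/-- `recognise_linear` in additive language. -/
theorem recognise_additive_aux {p : ℕ} [Fact p.Prime] {Q : Type*} [AddCommGroup Q] [Finite Q]
    [Module (ZMod p) Q] {P : Type*} [Group P] [Finite P] (f : P → Q →+ Q)
    (h1 : ∀ q, f 1 q = q) (hm : ∀ y z q, f (y * z) q = f y (f z q))
    (hinj : ∀ y, (∀ q, f y q = q) → y = 1) (A N : Subgroup P) (x : P) (W : AddSubgroup Q)
    (hgen : A ⊔ A.map (MulAut.conj x).toMonoidHom = ⊤) (hAN : A ≤ N) (hxN : x ∉ N) (hA1 : A ≠ ⊥)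
    (hfix : ∀ a ∈ A, ∀ w ∈ W, f a w = w) (hquad : ∀ a ∈ A, ∀ v, f a v - v ∈ W)
    (hreg : ∀ a ∈ A, a ≠ 1 → ∀ v, f a v = v → v ∈ W) (hcard : Nat.card W = Nat.card A)
    (hspan : ∀ q, ∃ w ∈ W, ∃ t ∈ W, w + f x t = q)
    (hmeet : ∀ y : P, y ∉ N → ∀ w ∈ W, f y w ∈ W → f y w = 0) :
    ∃ (K : Type) (_ : Field K) (_ : Fintype K), Fintype.card K = Nat.card A ∧
      ∃ (ρ : P ≃* SL(2, K)) (μ : (Fin 2 → K) ≃+ Q), ∀ (e : P) (v : Fin 2 → K),
        f e (μ v) = μ ((ρ e : Matrix (Fin 2) (Fin 2) K).mulVec v) := by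
  have hi : Function.Injective (linearAct p f h1 hm) := fun y z e => by
    refine (inv_mul_eq_one.mp (hinj (z⁻¹ * y) fun q => ?_)).symm
    have e' : f y q = f z q := by rw [← linearAct_apply p f h1 hm y, e]; rfl
    rw [hm, e', ← hm, inv_mul_cancel, h1]
  let Ws : Submodule (ZMod p) Q := AddSubgroup.toZModSubmodule p W
  refine recognise_linear (linearAct p f h1 hm) hi
    A N x Ws hgen hAN hxN hA1 hfix hquad hreg hcard ?_ ?_
  · refine ⟨disjoint_iff.2 ?_, codisjoint_iff.2 ?_⟩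
    · refine (Submodule.eq_bot_iff _).2 fun q hq => ?_
      obtain ⟨hq1, w, hw, rfl⟩ := hq
      exact hmeet x hxN w hw hq1
    · refine eq_top_iff.2 fun q _ => ?_
      obtain ⟨w, hw, t, ht, rfl⟩ := hspan q
      exact Submodule.add_mem_sup hw ⟨t, ht, rfl⟩
  · intro y hy
    refine (Submodule.eq_bot_iff _).2 fun q hq => ?_
    obtain ⟨hq1, w, hw, rfl⟩ := hq
    exact hmeet y hy w hw hq1


/-- `recognise_linear` for an abelian group of exponent `p`, without module language. -/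
theorem recognise_additive {p : ℕ} [Fact p.Prime] {Q : Type*} [AddCommGroup Q] [Finite Q]
    (hexp : ∀ q : Q, p • q = 0) {P : Type*} [Group P] [Finite P] (f : P → Q →+ Q)
    (h1 : ∀ q, f 1 q = q) (hm : ∀ y z q, f (y * z) q = f y (f z q))
    (hinj : ∀ y, (∀ q, f y q = q) → y = 1) (A N : Subgroup P) (x : P) (W : AddSubgroup Q)
    (hgen : A ⊔ A.map (MulAut.conj x).toMonoidHom = ⊤) (hAN : A ≤ N) (hxN : x ∉ N) (hA1 : A ≠ ⊥)
    (hfix : ∀ a ∈ A, ∀ w ∈ W, f a w = w) (hquad : ∀ a ∈ A, ∀ v, f a v - v ∈ W)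
    (hreg : ∀ a ∈ A, a ≠ 1 → ∀ v, f a v = v → v ∈ W) (hcard : Nat.card W = Nat.card A)
    (hspan : ∀ q, ∃ w ∈ W, ∃ t ∈ W, w + f x t = q)
    (hmeet : ∀ y : P, y ∉ N → ∀ w ∈ W, f y w ∈ W → f y w = 0) :
    ∃ (K : Type) (_ : Field K) (_ : Fintype K), Fintype.card K = Nat.card A ∧
      ∃ (ρ : P ≃* SL(2, K)) (μ : (Fin 2 → K) ≃+ Q), ∀ (e : P) (v : Fin 2 → K),
        f e (μ v) = μ ((ρ e : Matrix (Fin 2) (Fin 2) K).mulVec v) :=
  letI : Module (ZMod p) Q := AddCommGroup.zmodModule hexp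
  recognise_additive_aux (p := p) f h1 hm hinj A N x W hgen hAN hxN hA1 hfix hquad hreg hcard hspan hmeet

end Cfsg.Agent.PMinOff
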