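import Cfsg.Prelude.Def_BaumannBlocks
import Cfsg.Prelude.Def_LocalEven
import Cfsg.Agent.Thompson.AbelianOffender
import Cfsg.Agent.SylowNumber.Formula
import Cfsg.Agent.Coprime.Basic

/-!
# A minimal offender in a `p`-minimal group: the spread of fixed point spaces
-/

set_option autoImplicit false
set_option linter.unusedSectionVars false

namespace Cfsg.Agent.PMinOff

open Subgroup
open Cfsg.Agent.Offender (cj mem_cj)
open scoped commutatorElement Pointwise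

variable {G : Type*} [Group G]

/-- Two subgroups of an abelian subgroup multiply to their join. -/
theorem exists_mul_of_mem_sup {V A B : Subgroup G} (hVc : V ≤ centralizer (V : Set G)) (hA : A ≤ V)
    (hB : B ≤ V) {v : G} (hv : v ∈ A ⊔ B) : ∃ a ∈ A, ∃ b ∈ B, a * b = v := by
  have hn : A ≤ normalizer (B : Set G) :=
    ((hA.trans hVc).trans (centralizer_le hB)).trans (centralizer_le_normalizer _)
  have h : v ∈ (A : Set G) * (B : Set G) := by
    rw [← Subgroup.coe_mul_of_left_le_normalizer_right A B hn]; exact hv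
  obtain ⟨a, ha, b, hb, e⟩ := h
  exact ⟨a, ha, b, hb, e⟩

/-- In a `p`-minimal group a normal subgroup below the maximal overgroup of a Sylow subgroup meets
that Sylow subgroup in a normal subgroup. -/
theorem inf_sylow_normal {H : Type*} [Group H] [Finite H] {p : ℕ} [Fact p.Prime] (T : Sylow p H)
    (hmin : Cfsg.IsPMinimal p H) (M : Subgroup H) (hM : IsCoatom M) (hTM : (T : Subgroup H) ≤ M)
    (K : Subgroup H) [hK : K.Normal] (hKM : K ≤ M) : ((T : Subgroup H) ⊓ K).Normal := by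
  rw [← normalizer_eq_top_iff]
  by_contra hne
  obtain ⟨R, hR⟩ := Cfsg.Agent.SylowNumber.exists_sylow_inf T K
  have hf := Sylow.normalizer_sup_eq_top R
  rw [show (R : Subgroup K).map K.subtype = (T : Subgroup H) ⊓ K by
    rw [hR, subgroupOf_map_subtype, inf_assoc, inf_idem]] at hf
  obtain hN | ⟨M', hM', hle⟩ := eq_top_or_exists_le_coatom
    (normalizer (((T : Subgroup H) ⊓ K : Subgroup H) : Set H))
  · exact hne hN
  have hT : (T : Subgroup H) ≤ normalizer (((T : Subgroup H) ⊓ K : Subgroup H) : Set H) := by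
    refine Subgroup.le_normalizer_iff.mpr fun t ht r hr => ?_
    exact Subgroup.mem_inf.mpr ⟨mul_mem (mul_mem ht (Subgroup.mem_inf.mp hr).1) (inv_mem ht),
      hK.conj_mem r (Subgroup.mem_inf.mp hr).2 t⟩
  obtain rfl : M' = M := (hmin T).2.unique ⟨hM', hT.trans hle⟩ ⟨hM, hTM⟩
  exact hM.1 (top_le_iff.mp (hf ▸ sup_le hle hKM))

/-- A normal `p`-subgroup lies in every Sylow subgroup. -/
theorem le_sylow_of_normal {H : Type*} [Group H] [Finite H] {p : ℕ} [Fact p.Prime] {K : Subgroup H}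
    [hn : K.Normal] (hK : IsPGroup p K) (T : Sylow p H) : K ≤ T := by
  obtain ⟨Q, hQ⟩ := hK.exists_le_sylow
  obtain ⟨g, hg⟩ := MulAction.exists_smul_eq H Q T
  intro k hk
  rw [← hg, Sylow.coe_subgroup_smul, Subgroup.mem_pointwise_smul_iff_inv_smul_mem, MulAut.smul_def,
    MulAut.conj_inv_apply]
  exact hQ (by simpa using hn.conj_mem k hk g⁻¹)

/-- The hypotheses, with the maximal overgroup `M` of the Sylow subgroup. -/
structure Off (p : ℕ) (V P A : Subgroup G) (M : Subgroup ↥P) : Prop where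
  hV : Cfsg.IsElementaryAbelian p V
  hPV : P ≤ normalizer (V : Set G)
  hfaith : P ⊓ centralizer (V : Set G) = ⊥
  hA : A ≤ P
  hAel : Cfsg.IsElementaryAbelian p A
  hAM : ∀ a : ↥P, (a : G) ∈ A → a ∈ M
  gen : ∀ y : ↥P, y ∉ M → A ⊔ cj (y : G) A = P
  notMem : ∃ x : ↥P, x ∉ M
  bound : Nat.card V ≤ Nat.card A * Nat.card (V ⊓ centralizer (A : Set G) : Subgroup G)
  strict : ∀ A₀ : Subgroup G, A₀ ≤ A → A₀ ≠ ⊥ → A₀ ≠ A →
    Nat.card A₀ * Nat.card (V ⊓ centralizer (A₀ : Set G) : Subgroup G) <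
      Nat.card A * Nat.card (V ⊓ centralizer (A : Set G) : Subgroup G)

variable {p : ℕ} {V P A : Subgroup G} {M : Subgroup ↥P}

namespace Off

variable (h : Off p V P A M)

include h

theorem hVc : V ≤ centralizer (V : Set G) := (Thompson.ea_iff.1 h.hV).1

theorem comm {u v : G} (hu : u ∈ V) (hv : v ∈ V) : u * v = v * u :=
  (mem_centralizer_iff.1 (h.hVc hv) u hu)

theorem conj_mem {y v : G} (hy : y ∈ P) (hv : v ∈ V) : y * v * y⁻¹ ∈ V :=
  (mem_normalizer_iff.1 (h.hPV hy) v).1 hv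

theorem ne_bot : A ≠ ⊥ := by
  rintro rfl
  obtain ⟨x, hx⟩ := h.notMem
  have hP := h.gen x hx
  rw [show cj (x : G) (⊥ : Subgroup G) = ⊥ from map_bot _, bot_sup_eq] at hP
  exact hx (Subgroup.eq_bot_iff_forall _ |>.1 hP.symm _ x.2 |> fun e => by
    rw [show x = 1 from Subtype.ext e]; exact one_mem M)

theorem quad [Finite G] [Fact p.Prime] {a v : G} (ha : a ∈ A) (hv : v ∈ V) :
    a * v * a⁻¹ * v⁻¹ ∈ V ⊓ centralizer (A : Set G) := by
  have hAv : A ≤ normalizer (V : Set G) := h.hA.trans h.hPV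
  have hf : A ⊓ centralizer (V : Set G) = ⊥ :=
    le_bot_iff.1 ((inf_le_inf_right _ h.hA).trans h.hfaith.le)
  have hbot : V ⊓ centralizer ((⊥ : Subgroup G) : Set G) = V :=
    inf_eq_left.2 (le_centralizer_iff.1 bot_le)
  have hO : AbelianOffender.AbOff p V A :=
    { hW := h.hV, hn := hAv, hp := Thompson.ea_isPGroup h.hAel,
      hc := (Thompson.ea_iff.1 h.hAel).1, hf := hf,
      bound := fun B hB => by
        by_cases hB0 : B = ⊥
        · subst hB0
          rw [hbot, Subgroup.card_bot, one_mul]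
          exact h.bound
        by_cases hBA : B = A
        · rw [hBA]
        exact (h.strict B hB hB0 hBA).le }
  obtain ⟨⟨hle, heq⟩, hM⟩ := AbelianOffender.reaches_centralizer_commutator hO
  set B := A ⊓ centralizer ((⁅V, A⁆ : Subgroup G) : Set G) with hB
  by_cases hBA : B = A
  · have hle' : ⁅V, A⁆ ≤ V ⊓ centralizer (A : Set G) :=
      le_inf (AbelianOffender.commutator_le hO) (le_centralizer_iff.1 (inf_eq_left.1 hBA))
    have e : a * v * a⁻¹ * v⁻¹ = ⁅a, v⁆ := (commutatorElement_def a v).symm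
    rw [e]
    exact hle' (commutator_comm V A ▸ commutator_mem_commutator ha hv)
  exfalso
  by_cases hB0 : B = ⊥
  · rw [hB0, hbot] at hM
    have hVA : ⁅V, A⁆ ≤ ⁅⁅V, A⁆, A⁆ := by
      refine Subgroup.commutator_le.2 fun u hu b hb => ?_
      rw [hM] at hu
      obtain ⟨c, hc, w, hw, rfl⟩ := exists_mul_of_mem_sup h.hVc (AbelianOffender.commutator_le hO)
        (inf_le_left (a := V)) hu
      have hwb : b * w = w * b := mem_centralizer_iff.1 hw.2 b hb
      rw [show ⁅c * w, b⁆ = ⁅c, b⁆ by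
        rw [commutatorElement_def, commutatorElement_def, mul_inv_rev, mul_assoc c w b, ← hwb]
        group]
      exact commutator_mem_commutator hc hb
    have hne : ⁅V, A⁆ ≠ ⊥ := by
      intro e
      refine h.ne_bot (le_bot_iff.1 ?_)
      rw [← hf]
      exact le_inf le_rfl (commutator_eq_bot_iff_le_centralizer.1 (commutator_comm V A ▸ e))
    have hn : A ≤ normalizer ((⁅V, A⁆ : Subgroup G) : Set G) := by
      refine Subgroup.le_normalizer_iff.mpr fun b hb u hu => ?_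
      have e : b * u * b⁻¹ = ⁅u, b⁆⁻¹ * u := by rw [commutatorElement_def]; group
      rw [e]
      exact mul_mem (inv_mem (commutator_mem_commutator (AbelianOffender.commutator_le hO hu) hb)) hu
    exact absurd hVA (not_le_of_gt (Coprime.commutator_lt_of_isPGroup (Thompson.ea_isPGroup h.hAel)
      ((Thompson.ea_isPGroup h.hV).to_le (AbelianOffender.commutator_le hO)) hn hne))
  exact absurd heq (h.strict B inf_le_left hB0 hBA).ne

omit h in
/-- The fixed points of `P`. -/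
abbrev C₀ (V P : Subgroup G) : Subgroup G := V ⊓ centralizer (P : Set G)

/-- The fixed points of `A`. -/
abbrev W₀ (V A : Subgroup G) : Subgroup G := V ⊓ centralizer (A : Set G)

theorem C₀_le : C₀ V P ≤ W₀ V A := inf_le_inf_left _ (centralizer_le h.hA)

omit h in
theorem C₀_fix {y c : G} (hy : y ∈ P) (hc : c ∈ C₀ V P) : y * c * y⁻¹ = c :=
  mul_inv_eq_iff_eq_mul.2 (mem_centralizer_iff.1 hc.2 y hy)

theorem cj_C₀_le (y : ↥P) : C₀ V P ≤ cj (y : G) (W₀ V A) := fun c hc => by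
  have e := C₀_fix (P.inv_mem y.2) hc
  rw [inv_inv] at e
  rw [mem_cj, e]
  exact h.C₀_le hc

theorem cj_W₀ (y : ↥P) : cj (y : G) (W₀ V A) = V ⊓ centralizer (cj (y : G) A : Set G) :=
  Offender.cj_fix (h.hPV y.2) A

theorem meet [Finite G] {y z : ↥P} (hyz : y⁻¹ * z ∉ M) :
    cj (y : G) (W₀ V A) ⊓ cj (z : G) (W₀ V A) ≤ C₀ V P := by
  intro v hv
  have hv1 := mem_cj.1 hv.1
  have hv2 : (y : G)⁻¹ * v * y ∈ cj ((y⁻¹ * z : ↥P) : G) (W₀ V A) := by
    rw [mem_cj]
    have := mem_cj.1 hv.2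
    simpa [mul_assoc] using this
  rw [h.cj_W₀] at hv2
  have h3 : (y : G)⁻¹ * v * y ∈ C₀ V P := by
    refine ⟨hv1.1, centralizer_le (h.gen _ hyz).ge ?_⟩
    rw [Thompson.centralizer_sup]
    exact ⟨hv1.2, hv2.2⟩
  have h4 := C₀_fix y.2 h3
  rw [show (y : G) * ((y : G)⁻¹ * v * y) * (y : G)⁻¹ = v by group] at h4
  exact h4 ▸ h3

theorem meet_one [Finite G] {y : ↥P} (hy : y ∉ M) : W₀ V A ⊓ cj (y : G) (W₀ V A) ≤ C₀ V P := by
  have := h.meet (y := 1) (z := y) (by simpa using hy)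
  rwa [show ((1 : ↥P) : G) = 1 from rfl, Offender.cj_one] at this

theorem cj_le_V (y : ↥P) : cj (y : G) (W₀ V A) ≤ V := (h.cj_W₀ y).le.trans inf_le_left

variable [Finite G] [Fact p.Prime]

theorem le_normalizer_sup {x : ↥P} (hx : x ∉ M) :
    P ≤ normalizer ((W₀ V A ⊔ cj (x : G) (W₀ V A) : Subgroup G) : Set G) := by
  have hU : W₀ V A ⊔ cj (x : G) (W₀ V A) ≤ V := sup_le inf_le_left (h.cj_le_V x)
  conv_lhs => rw [← h.gen x hx]
  refine sup_le ?_ ?_
  · refine Subgroup.le_normalizer_iff.mpr fun a ha u hu => ?_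
    rw [show a * u * a⁻¹ = a * u * a⁻¹ * u⁻¹ * u by group]
    exact mul_mem (mem_sup_left (h.quad ha (hU hu))) hu
  · refine Subgroup.le_normalizer_iff.mpr fun b hb u hu => ?_
    rw [show b * u * b⁻¹ = b * u * b⁻¹ * u⁻¹ * u by group]
    refine mul_mem (mem_sup_right (mem_cj.2 ?_)) hu
    have := h.quad (mem_cj.1 hb) (show (x : G)⁻¹ * u * x ∈ V by
      simpa using h.conj_mem (P.inv_mem x.2) (hU hu))
    simpa [mul_assoc] using this

theorem cj_le_sup {x : ↥P} (hx : x ∉ M) (y : ↥P) :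
    cj (y : G) (W₀ V A) ≤ W₀ V A ⊔ cj (x : G) (W₀ V A) := by
  intro v hv
  have := (mem_normalizer_iff.1 (h.le_normalizer_sup hx y.2) _).1
    (mem_sup_left (mem_cj.1 hv))
  simpa [mul_assoc] using this

/-- An element outside the core of `M` fixes only `W₀` modulo `C₀`. -/
theorem regular {x : ↥P} (_hx : x ∉ M) {a : ↥P} (ha : (a : G) ∈ A)
    (hy : ∃ y : ↥P, y⁻¹ * a * y ∉ M) {u : G} (hu : u ∈ W₀ V A ⊔ cj (x : G) (W₀ V A))
    (hc : (a : G) * u * (a : G)⁻¹ * u⁻¹ ∈ C₀ V P) : u ∈ W₀ V A := by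
  obtain ⟨y, hy⟩ := hy
  have hyM : y ∉ M := fun hm => hy (mul_mem (mul_mem (inv_mem hm) (h.hAM a ha)) hm)
  have hu' : u ∈ W₀ V A ⊔ cj (y : G) (W₀ V A) :=
    (sup_le le_sup_left (h.cj_le_sup hyM x)) hu
  obtain ⟨w, hw, t, ht, rfl⟩ := exists_mul_of_mem_sup h.hVc inf_le_left (h.cj_le_V y) hu'
  refine mul_mem hw (h.C₀_le ?_)
  have hwa : (a : G) * w * (a : G)⁻¹ = w :=
    mul_inv_eq_iff_eq_mul.2 (mem_centralizer_iff.1 hw.2 a ha)
  have e : (a : G) * (w * t) * (a : G)⁻¹ * (w * t)⁻¹ = (a : G) * t * (a : G)⁻¹ * t⁻¹ := by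
    have h1 : (a : G) * (w * t) * (a : G)⁻¹ * (w * t)⁻¹ =
        ((a : G) * w * (a : G)⁻¹) * ((a : G) * t * (a : G)⁻¹ * t⁻¹) * w⁻¹ := by group
    rw [h1, hwa, h.comm hw.1 (h.quad ha (h.cj_le_V y ht)).1, mul_inv_cancel_right]
  rw [e] at hc
  obtain ⟨c, hcdef⟩ : ∃ c, c = (a : G) * t * (a : G)⁻¹ * t⁻¹ := ⟨_, rfl⟩
  have h1 : c * t ∈ cj (y : G) (W₀ V A) := mul_mem (h.cj_C₀_le y (hcdef ▸ hc)) ht
  have h2 : c * t ∈ cj ((a * y : ↥P) : G) (W₀ V A) := by
    rw [hcdef, inv_mul_cancel_right, Subgroup.coe_mul, ← Offender.cj_cj, mem_cj]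
    simpa [mul_assoc] using ht
  have h3 : c * t ∈ C₀ V P :=
    h.meet (y := y) (z := a * y) (by rwa [← mul_assoc]) ⟨h1, h2⟩
  simpa using mul_mem (inv_mem (show c ∈ C₀ V P from hcdef ▸ hc)) h3

/-- Commutation with a fixed `u` is a homomorphism on `A`. -/
def commHom (u : G) (hu : u ∈ V) : ↥A →* G where
  toFun a := (a : G) * u * (a : G)⁻¹ * u⁻¹
  map_one' := by simp
  map_mul' a b := by
    have hb := h.quad b.2 hu
    have hfix : (a : G) * ((b : G) * u * (b : G)⁻¹ * u⁻¹) * (a : G)⁻¹ =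
        (b : G) * u * (b : G)⁻¹ * u⁻¹ :=
      mul_inv_eq_iff_eq_mul.2 (mem_centralizer_iff.1 hb.2 a a.2)
    rw [Subgroup.coe_mul, mul_inv_rev, h.comm (h.quad a.2 hu).1 hb.1]
    conv_rhs => rw [← hfix]
    group

/-- A lower bound for an invariant subgroup meeting the complement. -/
theorem card_le_inf {x : ↥P} (hx : x ∉ M) (S : Subgroup G)
    (hSU : S ≤ W₀ V A ⊔ cj (x : G) (W₀ V A)) (hS : P ≤ normalizer (S : Set G)) (hCS : C₀ V P ≤ S)
    {u : G} (hu : u ∈ S) (huW : u ∉ W₀ V A) (A₀ : Subgroup G)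
    (hout : ∀ a : ↥P, (a : G) ∈ A → (a : G) ∉ A₀ → ∃ y : ↥P, y⁻¹ * a * y ∉ M) :
    Nat.card A * Nat.card (C₀ V P) ≤ Nat.card A₀ * Nat.card (S ⊓ W₀ V A : Subgroup G) := by
  have huV : u ∈ V := (sup_le inf_le_left (h.cj_le_V x)) (hSU hu)
  let f : ↥A →* ↥(S ⊓ W₀ V A) := (h.commHom u huV).codRestrict _ fun a =>
    ⟨Subgroup.mul_mem S ((mem_normalizer_iff.1 (hS (h.hA a.2)) u).1 hu) (inv_mem hu), h.quad a.2 huV⟩
  let K := ((C₀ V P).subgroupOf (S ⊓ W₀ V A)).comap f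
  have hK : Nat.card K ≤ Nat.card A₀ := by
    refine Nat.card_le_card_of_injective (fun k : K => (⟨((k : ↥A) : G), ?_⟩ : A₀)) ?_
    · by_contra hk
      exact huW (h.regular hx (a := ⟨_, h.hA (k : ↥A).2⟩) (k : ↥A).2
        (hout _ (k : ↥A).2 hk) (hSU hu) k.2)
    · intro k k' e
      exact Subtype.ext (Subtype.ext (congrArg Subtype.val e :))
  have hidx : K.index ≤ ((C₀ V P).subgroupOf (S ⊓ W₀ V A)).index := by
    rw [Subgroup.index_comap]
    rw [← Subgroup.relIndex_top_right (C₀ V P |>.subgroupOf (S ⊓ W₀ V A))]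
    exact Subgroup.relIndex_le_of_le_right le_top (by
      rw [Subgroup.relIndex_top_right]; exact Subgroup.index_ne_zero_of_finite)
  have h1 := Subgroup.card_mul_index ((C₀ V P).subgroupOf (S ⊓ W₀ V A))
  rw [Nat.card_congr (subgroupOfEquivOfLe (le_inf hCS h.C₀_le)).toEquiv] at h1
  rw [← Subgroup.card_mul_index K, ← h1]
  calc Nat.card K * K.index * Nat.card (C₀ V P)
      ≤ Nat.card A₀ * ((C₀ V P).subgroupOf (S ⊓ W₀ V A)).index * Nat.card (C₀ V P) :=
        Nat.mul_le_mul_right _ (Nat.mul_le_mul hK hidx)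
    _ = _ := by ring

/-- Counting, given that `A ∖ 1` avoids the core: `V = W₀ W₀ˣ` and `|W₀| = |A| |C₀|`. -/
theorem core {x : ↥P} (hx : x ∉ M)
    (hall : ∀ a : ↥P, (a : G) ∈ A → (a : G) ∉ (⊥ : Subgroup G) → ∃ y : ↥P, y⁻¹ * a * y ∉ M)
    {u : G} (hu : u ∈ cj (x : G) (W₀ V A)) (huW : u ∉ W₀ V A) :
    Nat.card (W₀ V A) = Nat.card A * Nat.card (C₀ V P) ∧
      W₀ V A ⊔ cj (x : G) (W₀ V A) = V ∧
      (∀ a ∈ A, a ≠ 1 → ∀ u ∈ V, a * u * a⁻¹ * u⁻¹ ∈ C₀ V P → u ∈ W₀ V A) ∧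
      W₀ V A = ⁅V, A⁆ ⊔ C₀ V P ∧
      ∀ S : Subgroup G, S ≤ V → P ≤ normalizer (S : Set G) → C₀ V P ≤ S →
        ∀ v ∈ S, v ∉ W₀ V A → V ≤ S := by
  set U := W₀ V A ⊔ cj (x : G) (W₀ V A) with hUdef
  have hUV : U ≤ V := sup_le inf_le_left (h.cj_le_V x)
  have hUinv := h.le_normalizer_sup hx
  have hS' : ∀ S : Subgroup G, S ≤ U → P ≤ normalizer (S : Set G) → C₀ V P ≤ S →
      ∀ v ∈ S, v ∉ W₀ V A → Nat.card A * Nat.card (C₀ V P) ≤ Nat.card (S ⊓ W₀ V A : Subgroup G) := by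
    intro S hSU hS hCS v hv hvW
    have := h.card_le_inf hx S hSU hS hCS hv hvW ⊥ hall
    rwa [Subgroup.card_bot, one_mul] at this
  have hcU := hS' U le_rfl hUinv (h.C₀_le.trans le_sup_left) u (mem_sup_right hu) huW
  rw [inf_eq_right.2 le_sup_left] at hcU
  have e3 := Thompson.card_sup_mul_card_inf_of_comm (X := W₀ V A) (Y := cj (x : G) (W₀ V A))
    ((inf_le_left.trans h.hVc).trans (centralizer_le (h.cj_le_V x)))
  rw [Offender.card_cj, ← hUdef] at e3
  have i9 : Nat.card (W₀ V A ⊓ cj (x : G) (W₀ V A) : Subgroup G) ≤ Nat.card (C₀ V P) :=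
    card_le_of_le (h.meet_one hx)
  have i10 : Nat.card U ≤ Nat.card V := card_le_of_le hUV
  have i11 : Nat.card U * Nat.card (W₀ V A ⊓ cj (x : G) (W₀ V A) : Subgroup G) ≤
      Nat.card U * Nat.card (C₀ V P) := Nat.mul_le_mul_left _ i9
  have hWpos : 0 < Nat.card (W₀ V A) := Nat.card_pos
  have hcard : Nat.card (W₀ V A) = Nat.card A * Nat.card (C₀ V P) := by
    refine le_antisymm ?_ hcU
    refine Nat.le_of_mul_le_mul_right ?_ hWpos
    calc Nat.card (W₀ V A) * Nat.card (W₀ V A) ≤ Nat.card U * Nat.card (C₀ V P) := e3 ▸ i11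
      _ ≤ Nat.card A * Nat.card (W₀ V A) * Nat.card (C₀ V P) :=
          Nat.mul_le_mul_right _ (i10.trans h.bound)
      _ = _ := by ring
  have hUeq : U = V := by
    refine eq_of_le_of_card_ge hUV ?_
    refine Nat.le_of_mul_le_mul_right (c := Nat.card (C₀ V P)) ?_ ?_
    · calc Nat.card V * Nat.card (C₀ V P) ≤ Nat.card A * Nat.card (W₀ V A) * Nat.card (C₀ V P) :=
            Nat.mul_le_mul_right _ h.bound
        _ = Nat.card (W₀ V A) * Nat.card (W₀ V A) := by rw [hcard]; ring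
        _ ≤ Nat.card U * Nat.card (C₀ V P) := e3 ▸ i11
    · exact Nat.card_pos
  have hreg : ∀ a ∈ A, a ≠ 1 → ∀ v ∈ V, a * v * a⁻¹ * v⁻¹ ∈ C₀ V P → v ∈ W₀ V A := by
    intro a ha ha1 v hv hc
    exact h.regular hx (a := ⟨a, h.hA ha⟩) ha (hall ⟨a, h.hA ha⟩ ha (by simpa using ha1))
      (show v ∈ U from hUeq.symm ▸ hv) hc
  have huV : u ∈ V := hUV (mem_sup_right hu)
  refine ⟨hcard, hUeq, hreg, ?_, ?_⟩
  · refine (eq_of_le_of_card_ge (sup_le ?_ h.C₀_le) ?_).symm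
    · refine Subgroup.commutator_le.2 fun v hv a ha => ?_
      rw [← commutatorElement_inv, commutatorElement_def]
      exact inv_mem (h.quad ha hv)
    · set f := h.commHom u huV with hf
      have hker : ∀ a : ↥A, f a ∈ C₀ V P → a = 1 := fun a ha => by
        by_contra ha1
        exact huW (hreg a a.2 (fun e => ha1 (Subtype.ext e)) u huV ha)
      have hfinj : Function.Injective f := (injective_iff_map_eq_one f).2 fun a ha =>
        hker a (ha.symm ▸ one_mem _)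
      have hle : f.range ≤ V := by
        rintro _ ⟨a, rfl⟩
        exact (h.quad a.2 huV).1
      have hfc : f.range ≤ ⁅V, A⁆ := by
        rintro _ ⟨a, rfl⟩
        show (a : G) * u * (a : G)⁻¹ * u⁻¹ ∈ _
        rw [← commutatorElement_def, ← commutatorElement_inv]
        exact inv_mem (commutator_mem_commutator huV a.2)
      have e4 := Thompson.card_sup_mul_card_inf_of_comm (X := f.range) (Y := C₀ V P)
        ((hle.trans h.hVc).trans (centralizer_le inf_le_left))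
      have hinf : f.range ⊓ C₀ V P = ⊥ := by
        refine (Subgroup.eq_bot_iff_forall _).2 ?_
        rintro _ ⟨⟨a, rfl⟩, ha⟩
        rw [hker a ha, map_one]
      rw [hinf, Subgroup.card_bot, mul_one,
        ← Nat.card_congr (MonoidHom.ofInjective hfinj).toEquiv] at e4
      rw [hcard, ← e4]
      exact card_le_of_le (sup_le_sup_right hfc _)
  · intro S hSV hSinv hCS v hv hvW
    have hcnt := hS' S (hUeq.symm ▸ hSV) hSinv hCS v hv hvW
    have hWS : S ⊓ W₀ V A = W₀ V A := eq_of_le_of_card_ge inf_le_right (hcard ▸ hcnt)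
    have hWS' : W₀ V A ≤ S := inf_eq_right.1 hWS
    rw [← hUeq]
    refine sup_le hWS' fun v hv => ?_
    have := (mem_normalizer_iff.1 (hSinv x.2) _).1 (hWS' (mem_cj.1 hv))
    rwa [show (x : G) * ((x : G)⁻¹ * v * x) * (x : G)⁻¹ = v by group] at this

/-- The action modulo `C₀` is faithful when normal `p`-subgroups are trivial. -/
theorem eq_one_of_stab (hOp : ∀ K : Subgroup ↥P, K.Normal → IsPGroup p K → K = ⊥) (y : ↥P)
    (hy : ∀ v ∈ V, (y : G) * v * (y : G)⁻¹ * v⁻¹ ∈ C₀ V P) : y = 1 := by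
  let K : Subgroup ↥P :=
    { carrier := {k | ∀ v ∈ V, (k : G) * v * (k : G)⁻¹ * v⁻¹ ∈ C₀ V P}
      one_mem' := fun v _ => by simp
      mul_mem' := fun {k l} hk hl v hv => by
        have e : ((k * l : ↥P) : G) * v * ((k * l : ↥P) : G)⁻¹ * v⁻¹ =
            ((k : G) * ((l : G) * v * (l : G)⁻¹) * (k : G)⁻¹ * ((l : G) * v * (l : G)⁻¹)⁻¹) *
              ((l : G) * v * (l : G)⁻¹ * v⁻¹) := by
          rw [Subgroup.coe_mul]; group
        rw [e]
        exact mul_mem (hk _ (h.conj_mem l.2 hv)) (hl v hv)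
      inv_mem' := fun {k} hk v hv => by
        have h1 := hk _ (h.conj_mem (P.inv_mem k.2) hv)
        have e : ((k⁻¹ : ↥P) : G) * v * ((k⁻¹ : ↥P) : G)⁻¹ * v⁻¹ =
            ((k : G) * ((k : G)⁻¹ * v * (k : G)⁻¹⁻¹) * (k : G)⁻¹ *
              ((k : G)⁻¹ * v * (k : G)⁻¹⁻¹)⁻¹)⁻¹ := by
          rw [Subgroup.coe_inv]; group
        rw [e]
        exact inv_mem h1 }
  haveI hKn : K.Normal := ⟨fun k hk q v hv => by
    have h1 := hk _ (h.conj_mem (P.inv_mem q.2) hv)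
    have e : ((q * k * q⁻¹ : ↥P) : G) * v * ((q * k * q⁻¹ : ↥P) : G)⁻¹ * v⁻¹ =
        (q : G) * ((k : G) * ((q : G)⁻¹ * v * (q : G)⁻¹⁻¹) * (k : G)⁻¹ *
          ((q : G)⁻¹ * v * (q : G)⁻¹⁻¹)⁻¹) * (q : G)⁻¹ := by
      rw [Subgroup.coe_mul, Subgroup.coe_mul, Subgroup.coe_inv]; group
    rw [e, C₀_fix q.2 h1]
    exact h1⟩
  have hKp : IsPGroup p K := fun k => ⟨1, by
    rw [pow_one]
    obtain ⟨c, hcdef⟩ : ∃ c : G, c = ((k : ↥P) : G) := ⟨_, rfl⟩
    have hcP : c ∈ P := hcdef ▸ (k : ↥P).2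
    have hpow : ∀ n : ℕ, ∀ v ∈ V, c ^ n * v * (c ^ n)⁻¹ = (c * v * c⁻¹ * v⁻¹) ^ n * v := by
      intro n
      induction n with
      | zero => simp
      | succ n ih =>
        intro v hv
        have hd : c * v * c⁻¹ * v⁻¹ ∈ C₀ V P := hcdef ▸ k.2 v hv
        have hfix := C₀_fix hcP (pow_mem hd n)
        calc c ^ (n + 1) * v * (c ^ (n + 1))⁻¹ = c * (c ^ n * v * (c ^ n)⁻¹) * c⁻¹ := by
              rw [pow_succ']; group
          _ = c * (c * v * c⁻¹ * v⁻¹) ^ n * c⁻¹ * (c * v * c⁻¹) := by rw [ih v hv]; group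
          _ = _ := by rw [hfix, pow_succ, mul_assoc _ (c * v * c⁻¹ * v⁻¹), inv_mul_cancel_right]
    have : c ^ p ∈ P ⊓ centralizer (V : Set G) := by
      refine ⟨pow_mem hcP p, mem_centralizer_iff.2 fun v hv => ?_⟩
      have h1 := hpow p v hv
      rw [(Thompson.ea_iff.1 h.hV).2 _ (hcdef ▸ k.2 v hv : c * v * c⁻¹ * v⁻¹ ∈ C₀ V P).1, one_mul] at h1
      exact (mul_inv_eq_iff_eq_mul.1 h1).symm
    rw [h.hfaith, Subgroup.mem_bot] at this
    refine Subtype.ext (Subtype.ext ?_)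
    rw [Subgroup.coe_pow, Subgroup.coe_pow, ← hcdef, this]
    rfl⟩
  exact (Subgroup.eq_bot_iff_forall K).1 (hOp K hKn hKp) y hy

/-- Counting: no element of `A ∖ 1` lies in the core, `V = W₀ W₀ˣ`, and `|W₀| = |A| |C₀|`. -/
theorem main (hmin : Cfsg.IsPMinimal p ↥P) (T : Sylow p ↥P) (hM : IsCoatom M)
    (hTM : (T : Subgroup ↥P) ≤ M) (hAT : A ≤ (T : Subgroup ↥P).map P.subtype)
    (hii : ⁅V ⊓ centralizer (((T : Subgroup ↥P).map P.subtype : Subgroup G) : Set G), P⁆ ≠ ⊥) :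
    ∃ x : ↥P, x ∉ M ∧ Nat.card (W₀ V A) = Nat.card A * Nat.card (C₀ V P) ∧
      W₀ V A ⊔ cj (x : G) (W₀ V A) = V ∧
      (∀ a ∈ A, a ≠ 1 → ∀ u ∈ V, a * u * a⁻¹ * u⁻¹ ∈ C₀ V P → u ∈ W₀ V A) ∧
      W₀ V A = ⁅V, A⁆ ⊔ C₀ V P ∧
      ∀ y : ↥P, (∀ v ∈ V, (y : G) * v * (y : G)⁻¹ * v⁻¹ ∈ C₀ V P) → y = 1 := by
  obtain ⟨z, hz, hzC⟩ : ∃ z ∈ V ⊓ centralizer (((T : Subgroup ↥P).map P.subtype : Subgroup G) : Set G),
      z ∉ C₀ V P := by
    by_contra hcon
    push Not at hcon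
    exact hii (commutator_eq_bot_iff_le_centralizer.2 fun v hv => (hcon v hv).2)
  obtain ⟨x, hx⟩ := h.notMem
  set U := W₀ V A ⊔ cj (x : G) (W₀ V A) with hUdef
  have hUV : U ≤ V := sup_le inf_le_left (h.cj_le_V x)
  have hzW : z ∈ W₀ V A := ⟨hz.1, centralizer_le hAT hz.2⟩
  set u := (x : G) * z * (x : G)⁻¹ with hudef
  have hu : u ∈ cj (x : G) (W₀ V A) := mem_cj.2 (by simpa [hudef, mul_assoc] using hzW)
  have huW : u ∉ W₀ V A := fun hm => hzC (by
    have h1 := h.meet_one hx ⟨hm, hu⟩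
    have h2 := C₀_fix (P.inv_mem x.2) h1
    rw [show (x : G)⁻¹ * u * (x : G)⁻¹⁻¹ = z by simp [hudef, mul_assoc]] at h2
    exact h2 ▸ h1)
  -- the core of `M` meets `T` in a normal `p`-subgroup
  haveI hRn : ((T : Subgroup ↥P) ⊓ M.normalCore).Normal :=
    inf_sylow_normal T hmin M hM hTM _ M.normalCore_le
  set R := (T : Subgroup ↥P) ⊓ M.normalCore with hRdef
  have hRconj : ∀ (y r : ↥P), r ∈ R → y * r * y⁻¹ ∈ R := fun y r hr => hRn.conj_mem r hr y
  -- invariant subgroups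
  have hCinv : P ≤ normalizer (C₀ V P : Set G) :=
    Subgroup.le_normalizer_iff.mpr fun y hy c hc => (C₀_fix hy hc).symm ▸ hc
  have hUinv := h.le_normalizer_sup hx
  have hcap : ∀ N : Subgroup ↥P, N.Normal →
      P ≤ normalizer ((V ⊓ centralizer ((N.map P.subtype : Subgroup G) : Set G) : Subgroup G) : Set G) := by
    intro N hN
    refine Subgroup.le_normalizer_iff.mpr fun y hy v hv => ⟨h.conj_mem hy hv.1, ?_⟩
    refine mem_centralizer_iff.2 ?_
    rintro _ ⟨n, hn, rfl⟩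
    have := mem_centralizer_iff.1 hv.2 _ (mem_map_of_mem P.subtype (hN.conj_mem n hn (⟨y, hy⟩⁻¹)))
    simp only [Subgroup.coe_subtype, Subgroup.coe_mul, Subgroup.coe_inv, inv_inv] at this ⊢
    calc (n : G) * (y * v * y⁻¹) = y * ((y⁻¹ * (n : G) * y) * v) * y⁻¹ := by group
      _ = y * (v * (y⁻¹ * (n : G) * y)) * y⁻¹ := by rw [this]
      _ = _ := by group
  have hzcap : ∀ N : Subgroup ↥P, N ≤ (T : Subgroup ↥P) →
      z ∈ V ⊓ centralizer ((N.map P.subtype : Subgroup G) : Set G) := fun N hN =>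
    ⟨hz.1, centralizer_le (map_mono hN) hz.2⟩
  -- the intersection of `A` with the core
  set A₀ := A ⊓ R.map P.subtype with hA₀def
  have hout : ∀ a : ↥P, (a : G) ∈ A → (a : G) ∉ A₀ → ∃ y : ↥P, y⁻¹ * a * y ∉ M := by
    intro a ha ha0
    by_contra hcon
    push Not at hcon
    obtain ⟨t, ht, hte⟩ := hAT ha
    obtain rfl : t = a := Subtype.ext hte
    refine ha0 ⟨ha, ⟨t, ⟨ht, fun y => ?_⟩, rfl⟩⟩
    simpa using hcon y⁻¹
  have hA₀bot : A₀ = ⊥ := by
    by_contra hne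
    by_cases hA₀A : A₀ = A
    · have hle : A ≤ R.map P.subtype := inf_eq_left.1 hA₀A
      have hcjle : cj (x : G) A ≤ R.map P.subtype := by
        intro b hb
        obtain ⟨r, hr, hre⟩ := hle (mem_cj.1 hb)
        refine ⟨x * r * x⁻¹, hRconj x r hr, ?_⟩
        show (x : G) * (P.subtype r) * (x : G)⁻¹ = b
        rw [hre]; group
      have htop : R = ⊤ := by
        refine top_le_iff.1 fun y _ => ?_
        obtain ⟨r, hr, hre⟩ := (sup_le hle hcjle) ((h.gen x hx).ge y.2)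
        exact (Subtype.ext hre : r = y) ▸ hr
      exact hM.1 (top_le_iff.1 (htop ▸ inf_le_left.trans hTM))
    set S := U ⊓ (V ⊓ centralizer ((R.map P.subtype : Subgroup G) : Set G)) with hSdef
    have hSinv : P ≤ normalizer (S : Set G) :=
      Subgroup.le_normalizer_iff.mpr fun y hy v hv =>
        ⟨(mem_normalizer_iff.1 (hUinv hy) v).1 hv.1, (mem_normalizer_iff.1 (hcap R hRn hy) v).1 hv.2⟩
    have hzS : z ∈ S := ⟨mem_sup_left hzW, hzcap R inf_le_left⟩
    have huS : u ∈ S := (mem_normalizer_iff.1 (hSinv x.2) z).1 hzS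
    have hCS : C₀ V P ≤ S := le_inf (h.C₀_le.trans le_sup_left)
      (inf_le_inf_left _ (centralizer_le (map_subtype_le R)))
    have hcount := h.card_le_inf hx S inf_le_left hSinv hCS huS huW A₀ hout
    have hSV : S ≤ V := inf_le_left.trans hUV
    have hlt := h.strict A₀ inf_le_left hne hA₀A
    have hbig : W₀ V A ⊔ S ≤ V ⊓ centralizer (A₀ : Set G) :=
      sup_le (inf_le_inf_left _ (centralizer_le inf_le_left))
        (le_inf hSV ((inf_le_right.trans inf_le_right).trans (centralizer_le inf_le_right)))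
    have e1 := Thompson.card_sup_mul_card_inf_of_comm (X := W₀ V A) (Y := S)
      ((inf_le_left.trans h.hVc).trans (centralizer_le hSV))
    have hcjS : cj (x : G) (S ⊓ W₀ V A) ≤ S := fun v hv => by
      have := (mem_normalizer_iff.1 (hSinv x.2) _).1 (mem_cj.1 hv).1
      simpa [mul_assoc] using this
    have e2 := Thompson.card_sup_mul_card_inf_of_comm (X := S ⊓ W₀ V A) (Y := cj (x : G) (S ⊓ W₀ V A))
      ((inf_le_left.trans hSV).trans (h.hVc.trans (centralizer_le (hcjS.trans hSV))))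
    rw [Offender.card_cj] at e2
    have i1 : Nat.card ((S ⊓ W₀ V A) ⊔ cj (x : G) (S ⊓ W₀ V A) : Subgroup G) ≤ Nat.card S :=
      card_le_of_le (sup_le inf_le_left hcjS)
    have i2 : Nat.card ((S ⊓ W₀ V A) ⊓ cj (x : G) (S ⊓ W₀ V A) : Subgroup G) ≤ Nat.card (C₀ V P) :=
      card_le_of_le ((inf_le_inf inf_le_right (Offender.cj_mono inf_le_right)).trans (h.meet_one hx))
    have i3 := card_le_of_le hbig
    rw [inf_comm (W₀ V A) S] at e1
    have hs : 0 < Nat.card (S ⊓ W₀ V A : Subgroup G) := Nat.card_pos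
    have i4 : Nat.card A₀ * Nat.card (W₀ V A ⊔ S : Subgroup G) * Nat.card (S ⊓ W₀ V A : Subgroup G) <
        Nat.card A * Nat.card (W₀ V A) * Nat.card (S ⊓ W₀ V A : Subgroup G) :=
      Nat.mul_lt_mul_of_pos_right ((Nat.mul_le_mul_left _ i3).trans_lt hlt) hs
    rw [mul_assoc, e1] at i4
    have i5 : Nat.card A₀ * Nat.card S < Nat.card A * Nat.card (S ⊓ W₀ V A : Subgroup G) := by
      refine Nat.lt_of_mul_lt_mul_left (a := Nat.card (W₀ V A)) ?_
      calc Nat.card (W₀ V A) * (Nat.card A₀ * Nat.card S)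
          = Nat.card A₀ * (Nat.card (W₀ V A) * Nat.card S) := by ring
        _ < _ := i4
        _ = _ := by ring
    have i6 := Nat.mul_lt_mul_of_pos_right i5 (Nat.card_pos (α := C₀ V P))
    have i7 := Nat.mul_le_mul_left (Nat.card A₀) (e2 ▸ Nat.mul_le_mul i1 i2)
    have i8 := Nat.mul_le_mul_right (Nat.card (S ⊓ W₀ V A : Subgroup G)) hcount
    nlinarith [i6, i7, i8]
  have hall : ∀ a : ↥P, (a : G) ∈ A → (a : G) ∉ (⊥ : Subgroup G) → ∃ y : ↥P, y⁻¹ * a * y ∉ M :=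
    fun a ha ha1 => hout a ha (hA₀bot ▸ ha1)
  -- an invariant subgroup containing `C₀` and an element outside `W₀` is `U`
  obtain ⟨hcard, hUeq, hreg, hWeq, hinv⟩ := h.core hx hall hu huW
  refine ⟨x, hx, hcard, hUeq, hreg, hWeq, h.eq_one_of_stab fun K hKn hKp => ?_⟩
  have hzS := hzcap K (le_sylow_of_normal hKp T)
  have huS : u ∈ V ⊓ centralizer ((K.map P.subtype : Subgroup G) : Set G) :=
    (mem_normalizer_iff.1 (hcap K hKn x.2) z).1 hzS
  have hVS := hinv _ inf_le_left (hcap K hKn)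
    (inf_le_inf_left _ (centralizer_le (map_subtype_le K))) u huS huW
  refine (Subgroup.eq_bot_iff_forall _).2 fun k hk => ?_
  have : (k : G) ∈ P ⊓ centralizer (V : Set G) := ⟨k.2, mem_centralizer_iff.2 fun v hv =>
    (mem_centralizer_iff.1 (hVS hv).2 _ ⟨k, hk, rfl⟩).symm⟩
  rw [h.hfaith, Subgroup.mem_bot] at this
  exact Subtype.ext this

end Off

end Cfsg.Agent.PMinOff
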