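import Cfsg.Agent.TimmesfeldTI.Field

/-!
# Fields from two additive spread sets exchanged by inversion
-/

set_option autoImplicit false

namespace Cfsg.Agent.PMinOff

open Module

/-- Hua's identity for two additive sets exchanged by inversion. -/
theorem hua_mem {R : Type*} [Ring R] [Nontrivial R] (E E' : AddSubgroup R)
    (h : ∀ a ∈ E, a ≠ 0 → ∃ a' ∈ E', a * a' = 1 ∧ a' * a = 1)
    (h' : ∀ a ∈ E', a ≠ 0 → ∃ a' ∈ E, a * a' = 1 ∧ a' * a = 1) :
    ∀ a ∈ E, ∀ b ∈ E', a * b * a ∈ E := by
  intro a ha b hb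
  by_cases ha0 : a = 0
  · simp [ha0, E.zero_mem]
  by_cases hb0 : b = 0
  · simp [hb0, E.zero_mem]
  obtain ⟨a', ha', haa', ha'a⟩ := h a ha ha0
  obtain ⟨b', hb', hbb', hb'b⟩ := h' b hb hb0
  by_cases hd0 : b' - a = 0
  · rw [← sub_eq_zero.mp hd0, hb'b, one_mul]
    exact hb'
  obtain ⟨d', hd', hdd', hd'd⟩ := h (b' - a) (E.sub_mem hb' ha) hd0
  have hk : a' + d' = a' * b' * d' := by
    calc a' + d' = a' * ((b' - a) * d') + (a' * a) * d' := by rw [hdd', ha'a, mul_one, one_mul]
      _ = a' * ((b' - a) + a) * d' := by rw [mul_add, add_mul, mul_assoc a' (b' - a)]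
      _ = a' * b' * d' := by rw [sub_add_cancel]
  have hkinv : (a' + d') * ((b' - a) * b * a) = 1 := by
    rw [hk]
    calc a' * b' * d' * ((b' - a) * b * a) = a' * b' * (d' * (b' - a)) * b * a := by
          simp only [mul_assoc]
      _ = a' * (b' * b) * a := by rw [hd'd, mul_one, mul_assoc a']
      _ = 1 := by rw [hb'b, mul_one, ha'a]
  have hk0 : a' + d' ≠ 0 := fun e => by rw [e, zero_mul] at hkinv; exact zero_ne_one hkinv
  obtain ⟨k', hk', hkk', hk'k⟩ := h' (a' + d') (E'.add_mem ha' hd') hk0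
  have e1 : (b' - a) * b * a = k' := by
    have := congrArg (k' * ·) hkinv
    rwa [← mul_assoc, hk'k, one_mul, mul_one] at this
  have e2 : a * b * a = a - k' := by
    rw [← e1, sub_mul, sub_mul, hb'b, one_mul, sub_sub_cancel]
  rw [e2]
  exact E.sub_mem ha hk'

/-- Two additive spread sets exchanged by inversion are one field. -/
theorem exists_field {p : ℕ} [Fact p.Prime] {W : Type*} [AddCommGroup W] [Module (ZMod p) W]
    [Finite W] [Nontrivial W] (E E' : AddSubgroup (Module.End (ZMod p) W))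
    (hEcard : Nat.card E = Nat.card W) (h1 : 1 ∈ E) (h1' : 1 ∈ E')
    (h : ∀ a ∈ E, a ≠ 0 → ∃ a' ∈ E', a * a' = 1 ∧ a' * a = 1)
    (h' : ∀ a ∈ E', a ≠ 0 → ∃ a' ∈ E, a * a' = 1 ∧ a' * a = 1) :
    ∃ (K : Type) (_ : Field K) (_ : Fintype K) (θ : K →+* Module.End (ZMod p) W),
      Fintype.card K = Nat.card W ∧ E' = E ∧ ∀ x, x ∈ E ↔ ∃ k, θ k = x := by
  classical
  haveI : Nontrivial (Module.End (ZMod p) W) := inferInstance
  have hEE : E' = E := by
    refine le_antisymm (fun b hb => ?_) (fun a ha => ?_)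
    · simpa using hua_mem E E' h h' 1 h1 b hb
    · simpa using hua_mem E' E h' h 1 h1' a ha
  subst hEE
  have hU' : ∀ x ∈ E', ∀ z ∈ E', x * z * x ∈ E' := hua_mem E' E' h h'
  let Es : Submodule (ZMod p) (Module.End (ZMod p) W) := AddSubgroup.toZModSubmodule p E'
  let n := finrank (ZMod p) W
  have hWcard : Nat.card W = p ^ n := by
    rw [Module.natCard_eq_pow_finrank (K := ZMod p), Nat.card_zmod]
  let bas := Module.finBasisOfFinrankEq (ZMod p) W (n := n) rfl
  let Φ := LinearMap.toMatrixAlgEquiv bas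
  haveI : Finite (Module.End (ZMod p) W) := Finite.of_injective Φ Φ.injective
  have hEfin : finrank (ZMod p) Es = n := by
    refine Nat.pow_right_injective (Fact.out : p.Prime).two_le ?_
    show p ^ finrank (ZMod p) Es = p ^ n
    rw [← hWcard, ← hEcard]
    conv_rhs => rw [show Nat.card E' = Nat.card Es from rfl,
      Module.natCard_eq_pow_finrank (K := ZMod p) (V := Es), Nat.card_zmod]
  have hEunit : ∀ x ∈ E', x ≠ 0 → IsUnit x := fun x hx hx0 => by
    obtain ⟨x', -, e1, e2⟩ := h x hx hx0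
    exact ⟨⟨x, x', e1, e2⟩, rfl⟩
  have hcomm : ∀ x ∈ E', ∀ z ∈ E', x * z = z * x := by
    intro x hx z hz
    have := TimmesfeldTI.comm_of_invertible_space (Es.map Φ.toLinearEquiv.toLinearMap)
      (by rw [LinearEquiv.finrank_map_eq]; exact hEfin) ⟨1, h1, map_one Φ⟩
      (by
        rintro _ ⟨q, hq, rfl⟩ _ ⟨r, hr, rfl⟩
        exact ⟨q * r * q, hU' q hq r hr, by rw [show Φ.toLinearEquiv.toLinearMap (q * r * q) = Φ (q * r * q) from rfl, map_mul, map_mul]; rfl⟩)
      (by
        rintro _ ⟨q, hq, rfl⟩ hne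
        exact (hEunit q hq fun e' => hne (by rw [e', map_zero])).map Φ)
      _ ⟨x, hx, rfl⟩ _ ⟨z, hz, rfl⟩
    exact Φ.injective (by rw [map_mul, map_mul]; exact this)
  have hmul : ∀ x ∈ E', ∀ z ∈ E', x * z ∈ E' := by
    intro x hx z hz
    rcases (Fact.out : p.Prime).eq_two_or_odd' with hp2 | hpodd
    · -- every element is a square
      have hsq : ∀ y ∈ E', y * y ∈ E' := fun y hy => by simpa using hU' y hy 1 h1
      have htwo : ∀ y : Module.End (ZMod p) W, y + y = 0 := fun y => by
        rw [← two_nsmul, ← Nat.cast_smul_eq_nsmul (ZMod p)]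
        have : ((2 : ℕ) : ZMod p) = 0 := by subst hp2; rfl
        rw [this, zero_smul]
      have hs : Function.Surjective (fun y : E' => (⟨(y : Module.End (ZMod p) W) * y, hsq _ y.2⟩ : E')) := by
        refine Finite.injective_iff_surjective.mp fun a b hab => ?_
        have e1 : (a : Module.End (ZMod p) W) * a = b * b := congrArg Subtype.val hab
        by_contra hne
        have hne' : (a : Module.End (ZMod p) W) + b ≠ 0 := fun e' => hne (Subtype.ext (by
          rw [eq_neg_of_add_eq_zero_left e']; exact neg_eq_of_add_eq_zero_left (htwo _)))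
        obtain ⟨u, hu⟩ := hEunit _ (E'.add_mem a.2 b.2) hne'
        have e2 : ((a : Module.End (ZMod p) W) + b) * (a + b) = 0 := by
          have : ((a : Module.End (ZMod p) W) + b) * (a + b) = (b * b + b * b) + (a * b + a * b) := by
            rw [mul_add, add_mul, add_mul, e1, hcomm _ b.2 _ a.2]
            abel
          rw [this, htwo, htwo, add_zero]
        rw [← hu] at e2
        exact hne' (hu ▸ by simpa using e2)
      obtain ⟨⟨r, hr⟩, hr'⟩ := hs ⟨x, hx⟩
      have e1 : r * r = x := congrArg Subtype.val hr'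
      rw [← e1, mul_assoc, hcomm r hr z hz, ← mul_assoc]
      exact hU' r hr z hz
    · have e : (1 + x) * z * (1 + x) - z - x * z * x = x * z + x * z := by
        have e0 : (1 + x) * z * (1 + x) - z - x * z * x = x * z + z * x := by
          simp only [add_mul, mul_add, one_mul, mul_one]
          abel
        rw [e0, ← hcomm x hx z hz]
      have h2mem : x * z + x * z ∈ Es := e ▸ E'.sub_mem
        (E'.sub_mem (hU' _ (E'.add_mem h1 hx) z hz) hz) (hU' x hx z hz)
      have h20 : ((2 : ℕ) : ZMod p) ≠ 0 := by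
        rw [Ne, ZMod.natCast_eq_zero_iff]
        intro hd
        have := (Nat.prime_dvd_prime_iff_eq Fact.out Nat.prime_two).mp hd
        rw [this] at hpodd
        exact absurd hpodd (by decide)
      have := Es.smul_mem ((2 : ℕ) : ZMod p)⁻¹ h2mem
      rwa [← two_nsmul, ← Nat.cast_smul_eq_nsmul (ZMod p), smul_smul, inv_mul_cancel₀ h20, one_smul] at this
  let S : Subring (Module.End (ZMod p) W) :=
    { carrier := E'
      one_mem' := h1
      mul_mem' := fun {x z} hx hz => hmul x hx z hz
      zero_mem' := E'.zero_mem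
      add_mem' := fun {x z} hx hz => E'.add_mem hx hz
      neg_mem' := fun {x} hx => E'.neg_mem hx }
  letI : CommRing S :=
    { (inferInstance : Ring S) with mul_comm := fun a b => Subtype.ext (hcomm a a.2 b b.2) }
  haveI : Nontrivial S := ⟨0, 1, fun e' => zero_ne_one (congrArg Subtype.val e')⟩
  haveI : NoZeroDivisors S := ⟨fun {a b} hab => by
    by_contra hn
    push Not at hn
    obtain ⟨u, hu⟩ := hEunit a a.2 fun e' => hn.1 (Subtype.ext e')
    have h0 : (u : Module.End (ZMod p) W) * b = 0 := hu ▸ congrArg Subtype.val hab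
    exact hn.2 (Subtype.ext (by simpa using h0))⟩
  haveI : IsDomain S := NoZeroDivisors.to_isDomain _
  letI : Fintype S := Fintype.ofFinite S
  letI : Field S := Fintype.fieldOfDomain S
  have hn0 : n ≠ 0 := (Module.finrank_pos (R := ZMod p) (M := W)).ne'
  let K := GaloisField p n
  letI : Fintype K := Fintype.ofFinite K
  have hKcard : Nat.card K = Nat.card W := by rw [GaloisField.card p n hn0, hWcard]
  let σ : K ≃+* S := FiniteField.ringEquivOfCardEq (by
    rw [← Nat.card_eq_fintype_card, ← Nat.card_eq_fintype_card, hKcard, ← hEcard]; rfl)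
  let θ : K →+* Module.End (ZMod p) W := S.subtype.comp σ.toRingHom
  refine ⟨K, inferInstance, inferInstance, θ, by rw [← Nat.card_eq_fintype_card, hKcard], rfl,
    fun x => ⟨fun hx => ⟨σ.symm ⟨x, hx⟩, congrArg Subtype.val (σ.apply_symm_apply _)⟩, ?_⟩⟩
  rintro ⟨k, rfl⟩
  exact (σ k).2

end Cfsg.Agent.PMinOff
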